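import Cfsg.Agent.Lib.AlperinRankTwo.Group
import Cfsg.Agent.S0205
import Cfsg.Agent.S0215
import Cfsg.Agent.S0949
import Cfsg.Agent.Lib.Isolated.Basic

/-!
Non-abelian simple groups: no weakly closed involution, two-rank at least two, Sylow not homocyclic.
-/

set_option autoImplicit false
set_option linter.unusedSectionVars false

namespace Cfsg.Agent.AlperinRankTwo

open Subgroup

universe u

variable {G : Type u} [Group G] [Finite G] [IsSimpleGroup G] (hG : ¬ IsMulCommutative G)

include hG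

theorem not_odd : ¬ Odd (Nat.card G) := fun h => by
  haveI := S0205.result h
  exact hG ⟨⟨fun a b => (IsSimpleGroup.comm_iff_isSolvable.2 inferInstance) a b⟩⟩

theorem bot_of_odd {N : Subgroup G} (hN : N.Normal) (h : Odd (Nat.card N)) : N = ⊥ :=
  hN.eq_bot_or_eq_top.resolve_right fun e => not_odd hG (by
    rwa [e, card_top] at h)

theorem not_weakly_closed (S : Sylow 2 G) {u : G} (hu : orderOf u = 2) (huS : u ∈ S)
    (h : ∀ g : G, g * u * g⁻¹ ∈ S → g * u * g⁻¹ = u) : False := by
  obtain ⟨N, hN, hodd, hcom⟩ := S0215.result S u hu huS h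
  rw [bot_of_odd hG hN hodd] at hcom
  have hc : u ∈ center G := mem_center_iff.2 fun g => (mul_inv_eq_iff_eq_mul.1
    (mul_inv_eq_one.1 (mem_bot.1 (hcom g)))).symm
  rcases (inferInstance : (center G).Normal).eq_bot_or_eq_top with e | e
  · exact invol_ne hu (mem_bot.1 (e ▸ hc))
  · exact hG ⟨⟨fun a b => (mem_center_iff.1 (e ▸ mem_top b) a)⟩⟩

theorem no_isolated (z : G) : ¬ Cfsg.IsIsolatedInvolution z := by
  intro hz
  haveI : Fact (Nat.Prime 2) := ⟨Nat.prime_two⟩
  obtain ⟨S, hS⟩ := (IsPGroup.of_card (n := 1) (G := zpowers z) (by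
    rw [Nat.card_zpowers, hz.1, pow_one])).exists_le_sylow
  exact not_weakly_closed hG S hz.1 (hS (mem_zpowers z)) fun g hg =>
    IsolatedP.eq_of_conj_mem hz.2 S.2 (hS (mem_zpowers z)) hg

theorem not_rank_one : ¬ Cfsg.PRankLE 2 1 G := by
  intro h1
  classical
  haveI : Fact (Nat.Prime 2) := ⟨Nat.prime_two⟩
  obtain ⟨S⟩ := (inferInstance : Nonempty (Sylow 2 G))
  have hne : (S : Subgroup G) ≠ ⊥ := S.ne_bot_of_dvd_card
    (even_iff_two_dvd.1 (Nat.not_odd_iff_even.1 (not_odd hG)))
  haveI : Nontrivial (S : Subgroup G) := (nontrivial_iff_ne_bot _).2 hne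
  obtain ⟨z, -, hz, hzc⟩ := NormalFour.exists_central_mem S.2 (N := (⊤ : Subgroup (S : Subgroup G)))
    top_ne_bot
  have hz' : orderOf (z : G) = 2 := by rw [orderOf_coe, hz]
  refine not_weakly_closed hG S hz' z.2 fun g hg => by_contra fun hne' => ?_
  set w := g * (z : G) * g⁻¹ with hw
  have hw2 : w * w = 1 := by
    rw [hw, show g * (z : G) * g⁻¹ * (g * z * g⁻¹) = g * ((z : G) * z) * g⁻¹ by group, invol_sq hz']
    group
  have hwz : w * z = z * w := congrArg Subtype.val (mem_center_iff.1 hzc ⟨w, hg⟩)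
  set A := closure ({(z : G), w} : Set G) with hA
  haveI hAc : IsMulCommutative A := isMulCommutative_closure (by
    rintro p (rfl | rfl) r (rfl | rfl)
    exacts [rfl, hwz.symm, hwz, rfl])
  have hA2 : ∀ a ∈ A, a ^ 2 = 1 := by
    intro a ha
    induction ha using closure_induction with
    | mem p hp =>
      rcases hp with rfl | rfl
      · rw [pow_two, invol_sq hz']
      · rw [pow_two, hw2]
    | one => rw [one_pow]
    | mul p r hp hr ihp ihr =>
      rw [Commute.mul_pow (congrArg Subtype.val (mul_comm' (⟨p, hp⟩ : A) ⟨r, hr⟩)), ihp, ihr, one_mul]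
    | inv p _ ihp => rw [inv_pow, ihp, inv_one]
  have hw1 : w ≠ 1 := fun e => invol_ne hz' (conj_eq_one_iff.1 e)
  have h3 : ({1, (z : G), w} : Finset G).card ≤ Nat.card A := by
    rw [← SetLike.coe_sort_coe, Nat.card_coe_set_eq, ← Set.ncard_coe_finset]
    refine Set.ncard_le_ncard ?_ (Set.toFinite _)
    intro p hp
    simp only [Finset.coe_insert, Finset.coe_singleton, Set.mem_insert_iff, Set.mem_singleton_iff] at hp
    rcases hp with rfl | rfl | rfl
    exacts [one_mem A, subset_closure (Or.inl rfl), subset_closure (Or.inr rfl)]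
  rw [Finset.card_insert_of_notMem (by simp [(invol_ne hz').symm, hw1.symm]),
    Finset.card_insert_of_notMem (by simp [Ne.symm hne']), Finset.card_singleton] at h3
  have := h1 A hAc hA2
  rw [pow_one] at this
  omega

theorem not_homocyclic (S : Sylow 2 G) {n : ℕ} (hn : 2 ≤ n)
    (e : (S : Subgroup G) ≃* Multiplicative (ZMod (2 ^ n) × ZMod (2 ^ n))) : False := by
  haveI : NeZero (2 ^ n) := ⟨pow_ne_zero _ two_ne_zero⟩
  obtain ⟨hN, -, -⟩ := S0949.result S n hn e fun N hN h => bot_of_odd hG hN h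
  rcases hN.eq_bot_or_eq_top with h | h
  · have hc := Nat.card_congr e.toEquiv
    rw [h, card_bot, Nat.card_congr Multiplicative.toAdd, Nat.card_prod, Nat.card_zmod] at hc
    have h4 : 2 ^ 2 ≤ 2 ^ n := Nat.pow_le_pow_right two_pos hn
    nlinarith
  · refine hG ⟨⟨fun a b => ?_⟩⟩
    exact congrArg Subtype.val (e.injective ((map_mul e ⟨a, h ▸ mem_top a⟩ ⟨b, h ▸ mem_top b⟩).trans
      ((mul_comm _ _).trans (map_mul e ⟨b, h ▸ mem_top b⟩ ⟨a, h ▸ mem_top a⟩).symm)))

end Cfsg.Agent.AlperinRankTwo
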