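import Cfsg.Prelude.Def_Transfer
import Cfsg.Agent.Lib.TwoGroups.CentFour
import Cfsg.Agent.Lib.LocalEven.KleinGammaRank
import Mathlib.GroupTheory.SpecificGroups.Dihedral
import Mathlib.GroupTheory.SpecificGroups.KleinFour

/-!
2-groups of rank two: involutions with small centralizers, and the normal four-group.
-/

set_option autoImplicit false
set_option linter.unusedSectionVars false
set_option linter.style.haveILetI false

namespace Cfsg.Agent.AlperinRankTwo

open Subgroup

universe u

variable {S : Type u} [Group S] [Finite S]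

theorem sq_eq_one_in_zpowers {a v : S} {m : ℕ} (ho : orderOf a = 2 ^ (m + 1)) (hv : v ∈ zpowers a)
    (h2 : v * v = 1) : v = 1 ∨ v = a ^ (2 ^ m) := by
  obtain ⟨k, rfl⟩ := hv
  simp only at h2 ⊢
  rw [← zpow_add, ← orderOf_dvd_iff_zpow_eq_one, ho, ← two_mul] at h2
  push_cast at h2
  rw [pow_succ'] at h2
  obtain ⟨c, rfl⟩ : (2 : ℤ) ^ m ∣ k := (mul_dvd_mul_iff_left (by norm_num)).1 h2
  have h1 : (a ^ (2 ^ m)) ^ (2 : ℤ) = 1 := by
    rw [← zpow_natCast, ← zpow_mul, ← orderOf_dvd_iff_zpow_eq_one, ho]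
    exact ⟨1, by push_cast; ring⟩
  have e : a ^ ((2 : ℤ) ^ m * c) = (a ^ (2 ^ m)) ^ c := by
    rw [← zpow_natCast a (2 ^ m), ← zpow_mul]; push_cast; rfl
  rw [e]
  rcases Int.even_or_odd' c with ⟨d, hd | hd⟩
  · left; rw [hd, zpow_mul, h1, one_zpow]
  · right; rw [hd, zpow_add, zpow_mul, h1, one_zpow, one_mul, zpow_one]

/-- An element whose square is not one has a power whose square is an involution. -/
theorem exists_sq_invol (hS : IsPGroup 2 S) {w : S} (hw : w * w ≠ 1) :
    ∃ i : ℕ, (w ^ i) * (w ^ i) ≠ 1 ∧ ((w ^ i) * (w ^ i)) * ((w ^ i) * (w ^ i)) = 1 := by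
  obtain ⟨k, hk⟩ := IsPGroup.iff_orderOf.1 hS w
  have hne : ∀ j, j < k → w ^ 2 ^ j ≠ 1 := fun j hj h => by
    have := Nat.le_of_dvd (pow_pos two_pos j) (orderOf_dvd_of_pow_eq_one h)
    rw [hk] at this
    exact absurd this (not_le.2 (Nat.pow_lt_pow_right (by norm_num) hj))
  have hk2 : 2 ≤ k := by
    by_contra h
    refine hw ?_
    rw [← pow_two, ← orderOf_dvd_iff_pow_eq_one, hk]
    exact (pow_dvd_pow 2 (show k ≤ 1 by omega)).trans (by norm_num)
  refine ⟨2 ^ (k - 2), ?_, ?_⟩
  · rw [← pow_add, ← two_mul, ← pow_succ']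
    exact hne _ (by omega)
  · rw [← pow_add, ← pow_add, ← orderOf_dvd_iff_pow_eq_one, hk,
      show 2 ^ (k - 2) + 2 ^ (k - 2) + (2 ^ (k - 2) + 2 ^ (k - 2)) = 2 ^ 2 * 2 ^ (k - 2) by ring,
      ← pow_add, show 2 + (k - 2) = k by omega]

/-- An involution outside a subgroup of index two in which it centralises two elements. -/
theorem card_cent_four {K : Subgroup S} {x z : S} (hx : orderOf x = 2) (hxK : x ∉ K)
    (hK : ∀ g, g ∉ K → x⁻¹ * g ∈ K) (hz : z * z = 1) (hz1 : z ≠ 1) (hzK : z ∈ K)
    (hxz : x * z = z * x) (hC : ∀ c ∈ K, x * c = c * x → c = 1 ∨ c = z) :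
    Nat.card (centralizer ({x} : Set S)) = 4 := by
  classical
  have hxx : x * x = 1 := by rw [← pow_two, ← hx, pow_orderOf_eq_one]
  have hx1 : x ≠ 1 := fun e => hxK (e ▸ one_mem K)
  have hne : x ≠ z := fun e => hxK (e ▸ hzK)
  have hxz1 : x * z ≠ 1 := fun e => hne
    ((inv_eq_of_mul_eq_one_left e).symm.trans (inv_eq_of_mul_eq_one_right hz))
  have hset : (centralizer ({x} : Set S) : Set S) = ↑({1, z, x, x * z} : Finset S) := by
    ext g
    simp only [SetLike.mem_coe, mem_centralizer_singleton_iff, Finset.coe_insert, Finset.coe_singleton,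
      Set.mem_insert_iff, Set.mem_singleton_iff]
    constructor
    · intro hg
      by_cases hgK : g ∈ K
      · rcases hC g hgK hg.symm with h | h
        · exact Or.inl h
        · exact Or.inr (Or.inl h)
      · have hc : x * (x⁻¹ * g) = x⁻¹ * g * x := by rw [mul_inv_cancel_left, mul_assoc, hg, inv_mul_cancel_left]
        rcases hC _ (hK g hgK) hc with h | h
        · exact Or.inr (Or.inr (Or.inl (inv_mul_eq_one.1 h).symm))
        · exact Or.inr (Or.inr (Or.inr (inv_mul_eq_iff_eq_mul.1 h)))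
    · rintro (rfl | rfl | rfl | rfl)
      · rw [one_mul, mul_one]
      · exact hxz.symm
      · rfl
      · rw [mul_assoc, ← hxz]
  rw [← SetLike.coe_sort_coe, Nat.card_coe_set_eq, hset, Set.ncard_coe_finset,
    Finset.card_insert_of_notMem (by
      simp [hz1.symm, hx1.symm, hxz1.symm]),
    Finset.card_insert_of_notMem (by simp [hne.symm, hx1]),
    Finset.card_insert_of_notMem (by simp [hz1]), Finset.card_singleton]

/-- A group of order four with two different involutions is a four-group. -/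
theorem klein_of_card_four (h4 : Nat.card S = 4) (h1 : ¬ Cfsg.PRankLE 2 1 S) : IsKleinFour S := by
  unfold Cfsg.PRankLE at h1
  push Not at h1
  obtain ⟨A, -, hA2, hAcard⟩ := h1
  have hdvd := A.card_subgroup_dvd_card
  rw [h4] at hdvd
  have hA : A = ⊤ := eq_top_of_card_eq A (by
    have := Nat.le_of_dvd (by norm_num) hdvd
    rw [pow_one] at hAcard
    rcases (show Nat.card A = 3 ∨ Nat.card A = 4 by omega) with e | e
    · rw [e] at hdvd; norm_num at hdvd
    · rw [e, h4])
  haveI : Nontrivial S := Finite.one_lt_card_iff_nontrivial.1 (by omega)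
  refine ⟨h4, (Monoid.exponent_eq_prime_iff Nat.prime_two).2 fun g hg => ?_⟩
  haveI : Fact (Nat.Prime 2) := ⟨Nat.prime_two⟩
  exact orderOf_eq_prime (hA2 g (hA ▸ mem_top g)) hg

/-- An involution with centralizer of order four: dihedral or quasi-dihedral. -/
theorem dih_or_qd (hS : IsPGroup 2 S) (h1 : ¬ Cfsg.PRankLE 2 1 S) {x : S} (hx : orderOf x = 2)
    (hC : Nat.card (centralizer ({x} : Set S)) = 4) :
    (∃ m : ℕ, 2 ≤ m ∧ Nonempty (S ≃* DihedralGroup m)) ∨ Cfsg.IsQuasiDihedral S := by
  rcases CentFour.dihedral_or_quasiDihedral hS hx hC with ⟨n, ⟨e⟩⟩ | h | h4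
  · refine Or.inl ⟨n, ?_, ⟨e⟩⟩
    have h := Nat.card_congr e.toEquiv
    rw [DihedralGroup.nat_card] at h
    have := Nat.le_of_dvd Nat.card_pos (hC ▸ card_subgroup_dvd_card (centralizer ({x} : Set S)))
    omega
  · exact Or.inr h
  · haveI := klein_of_card_four h4 h1
    exact Or.inl ⟨2, le_rfl, IsKleinFour.nonempty_mulEquiv⟩

/-- A normal four-group with a central involution `z`. -/
structure Four (U : Subgroup S) (z u : S) : Prop where
  normal : U.Normal
  zc : z ∈ center S
  z2 : orderOf z = 2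
  u2 : orderOf u = 2
  ne : u ≠ z
  mem : ∀ w, w ∈ U ↔ w = 1 ∨ w = z ∨ w = u ∨ w = z * u

theorem invol_sq {v : S} (hv : orderOf v = 2) : v * v = 1 := by
  rw [← pow_two, ← hv, pow_orderOf_eq_one]

theorem invol_ne {v : S} (hv : orderOf v = 2) : v ≠ 1 := fun e => by
  rw [e, orderOf_one] at hv; omega

namespace Four

variable {U : Subgroup S} {z u : S} (F : Four U z u)

include F

theorem comm (g : S) : g * z = z * g := mem_center_iff.1 F.zc g

theorem zU : z ∈ U := (F.mem z).2 (Or.inr (Or.inl rfl))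

theorem uU : u ∈ U := (F.mem u).2 (Or.inr (Or.inr (Or.inl rfl)))

theorem mem_T {g : S} : g ∈ centralizer (U : Set S) ↔ g * u = u * g := by
  rw [mem_centralizer_iff]
  refine ⟨fun h => (h u F.uU).symm, fun h w hw => ?_⟩
  rcases (F.mem w).1 hw with rfl | rfl | rfl | rfl
  · rw [one_mul, mul_one]
  · exact (F.comm g).symm
  · exact h.symm
  · exact ((show Commute g z from F.comm g).mul_right h).symm.eq

theorem le_T : U ≤ centralizer (U : Set S) := fun w hw => F.mem_T.2 (by
  rcases (F.mem w).1 hw with rfl | rfl | rfl | rfl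
  · rw [one_mul, mul_one]
  · exact (F.comm u).symm
  · rfl
  · rw [mul_assoc, ← mul_assoc u, F.comm u, mul_assoc])

theorem sq_mem {w : S} (hw : w ∈ U) : w * w = 1 := by
  rcases (F.mem w).1 hw with rfl | rfl | rfl | rfl
  · rw [one_mul]
  · exact invol_sq F.z2
  · exact invol_sq F.u2
  · rw [show z * u * (z * u) = z * (u * z) * u by group, F.comm u,
      show z * (z * u) * u = (z * z) * (u * u) by group, invol_sq F.z2, invol_sq F.u2, one_mul]

theorem zu2 : orderOf (z * u) = 2 := by
  haveI : Fact (Nat.Prime 2) := ⟨Nat.prime_two⟩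
  refine orderOf_eq_prime (by rw [pow_two]; exact F.sq_mem ((F.mem _).2 (Or.inr (Or.inr (Or.inr rfl))))) ?_
  intro e
  exact F.ne ((inv_eq_of_mul_eq_one_right e).symm.trans (inv_eq_of_mul_eq_one_right (invol_sq F.z2)))

theorem zu_ne_u : z * u ≠ u := fun e => invol_ne F.z2 (mul_eq_right.1 e)

theorem zu_ne_z : z * u ≠ z := fun e => invol_ne F.u2 (mul_eq_left.1 e)

/-- The other noncentral element serves as well. -/
theorem swap : Four U z (z * u) where
  normal := F.normal
  zc := F.zc
  z2 := F.z2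
  u2 := F.zu2
  ne := F.zu_ne_z
  mem := fun w => by
    rw [← mul_assoc, invol_sq F.z2, one_mul, F.mem w]
    tauto

theorem card_four : Nat.card U = 4 := by
  classical
  have hset : (U : Set S) = ↑({1, z, u, z * u} : Finset S) := by
    ext w; simp [F.mem w]
  rw [← SetLike.coe_sort_coe, Nat.card_coe_set_eq, hset, Set.ncard_coe_finset,
    Finset.card_insert_of_notMem (by
      simp [(invol_ne F.z2).symm, (invol_ne F.u2).symm, (invol_ne F.zu2).symm]),
    Finset.card_insert_of_notMem (by simp [F.ne.symm, F.zu_ne_z.symm]),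
    Finset.card_insert_of_notMem (by simp [F.zu_ne_u.symm]), Finset.card_singleton]

/-- The involutions centralising the four-group lie in it. -/
theorem invol_mem (h2 : Cfsg.PRankLE 2 2 S) {x : S} (hx : x ∈ centralizer (U : Set S)) (hxx : x * x = 1) :
    x ∈ U := by
  by_contra hxU
  set A := closure (insert x (U : Set S)) with hA
  haveI hAc : IsMulCommutative A := isMulCommutative_closure (by
    rintro p (rfl | hp) r (rfl | hr)
    · rfl
    · exact (mem_centralizer_iff.1 hx r hr).symm
    · exact mem_centralizer_iff.1 hx p hp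
    · exact mem_centralizer_iff.1 (F.le_T hr) p hp)
  have hA2 : ∀ w ∈ A, w ^ 2 = 1 := by
    intro w hw
    induction hw using closure_induction with
    | mem p hp =>
      rcases hp with rfl | hp
      · rw [pow_two, hxx]
      · rw [pow_two, F.sq_mem hp]
    | one => rw [one_pow]
    | mul p r hp hr ihp ihr =>
      rw [Commute.mul_pow (congrArg Subtype.val (mul_comm' (⟨p, hp⟩ : A) ⟨r, hr⟩)), ihp, ihr, one_mul]
    | inv p _ ihp => rw [inv_pow, ihp, inv_one]
  have hle : U ≤ A := fun w hw => subset_closure (Or.inr hw)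
  have hlt : U < A := lt_of_le_of_ne hle fun e => hxU (e ▸ subset_closure (Or.inl rfl))
  have h4 : Nat.card A ≤ 4 := h2 A hAc hA2
  exact hlt.ne (eq_of_le_of_card_ge hle (by rw [F.card_four]; exact h4))

theorem cases_of_T (h2 : Cfsg.PRankLE 2 2 S) {x : S} (hx : x ∈ centralizer (U : Set S))
    (hxo : orderOf x = 2) : x = z ∨ x = u ∨ x = z * u := by
  rcases (F.mem x).1 (F.invol_mem h2 hx (invol_sq hxo)) with e | e
  · exact absurd e (invol_ne hxo)
  · exact e

theorem conj_u {g : S} (hg : g ∉ centralizer (U : Set S)) : g * u * g⁻¹ = z * u := by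
  rcases (F.mem _).1 (F.normal.conj_mem u F.uU g) with e | e | e | e
  · exact absurd (conj_eq_one_iff.1 e) (invol_ne F.u2)
  · exfalso
    refine F.ne ?_
    calc u = g⁻¹ * (g * u * g⁻¹) * g := by group
      _ = z := by rw [e, mul_assoc, ← F.comm g, inv_mul_cancel_left]
  · exact absurd (F.mem_T.2 (mul_inv_eq_iff_eq_mul.1 e)) hg
  · exact e

theorem index_two {g : S} (hg : g ∉ centralizer (U : Set S)) :
    (centralizer (U : Set S)).index = 2 := by
  refine index_eq_two_iff.2 ⟨g, fun h => ?_⟩
  by_cases hh : h ∈ centralizer (U : Set S)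
  · exact Or.inr ⟨hh, fun h' => hg (by simpa using mul_mem (inv_mem hh) h')⟩
  · refine Or.inl ⟨F.mem_T.2 (mul_inv_eq_iff_eq_mul.1 ?_), hh⟩
    have hgz : g * z * g⁻¹ = z := by rw [F.comm g, mul_inv_cancel_right]
    have hhz : h * z * h⁻¹ = z := by rw [F.comm h, mul_inv_cancel_right]
    rw [show h * g * u * (h * g)⁻¹ = h * (g * u * g⁻¹) * h⁻¹ by group, F.conj_u hg,
      show h * (z * u) * h⁻¹ = h * z * h⁻¹ * (h * u * h⁻¹) by group, hhz, F.conj_u hh, ← mul_assoc,
      invol_sq F.z2, one_mul]

/-- The centralizer of a noncentral element of the four-group. -/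
theorem cent_u : centralizer ({u} : Set S) = centralizer (U : Set S) := by
  ext g; rw [mem_centralizer_singleton_iff, F.mem_T]

/-- Outside, an involution centralising no square root of `z` has centralizer of order four. -/
theorem cent_four (hS : IsPGroup 2 S) (h2 : Cfsg.PRankLE 2 2 S) {x : S}
    (hx : x ∉ centralizer (U : Set S)) (hxo : orderOf x = 2)
    (hno : ∀ w ∈ centralizer (U : Set S), x * w = w * x → w * w ≠ z) :
    Nat.card (centralizer ({x} : Set S)) = 4 := by
  refine card_cent_four hxo hx (fun g hg => ?_) (invol_sq F.z2) (invol_ne F.z2) (F.le_T F.zU)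
    (F.comm x) fun c hc hxc => ?_
  · exact (mul_mem_iff_of_index_two (F.index_two hx)).2 (iff_of_false (fun h => hx (by simpa using h)) hg)
  have key : ∀ d ∈ centralizer (U : Set S), x * d = d * x → d * d = 1 → d = 1 ∨ d = z := by
    intro d hd hxd hdd
    rcases (F.mem d).1 (F.invol_mem h2 hd hdd) with e | e | e | e
    · exact Or.inl e
    · exact Or.inr e
    · exact absurd (F.mem_T.2 (e ▸ hxd)) hx
    · exact absurd ((F.swap.mem_T).2 (e ▸ hxd)) hx
  refine key c hc hxc ?_
  by_contra hne
  obtain ⟨i, hi1, hi2⟩ := exists_sq_invol hS hne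
  have hci : x * c ^ i = c ^ i * x := ((show Commute x c from hxc).pow_right i).eq
  rcases key _ (mul_mem (pow_mem hc i) (pow_mem hc i))
    ((show Commute x (c ^ i) from hci).mul_right hci).eq hi2 with e | e
  · exact hi1 e
  · exact hno _ (pow_mem hc i) hci e

end Four

/-- A 2-group of rank two has a normal four-group, or an involution with centralizer of order four. -/
theorem four_or_small (hS : IsPGroup 2 S) (h1 : ¬ Cfsg.PRankLE 2 1 S) :
    (∃ U z u, Four (S := S) U z u) ∨
      ∃ x : S, orderOf x = 2 ∧ Nat.card (centralizer ({x} : Set S)) = 4 := by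
  classical
  haveI : Fact (Nat.Prime 2) := ⟨Nat.prime_two⟩
  by_cases hno : ∀ V : Subgroup S, V.Normal → V ≤ ⊤ → Nat.card V = 4 → (∀ v ∈ V, v * v = 1) → False
  swap
  · push Not at hno
    obtain ⟨U, hUn, -, hU4, hU2, -⟩ := hno
    left
    haveI := hUn
    obtain ⟨z, hzU, hz, hzc⟩ := NormalFour.exists_central_mem hS (N := U)
      (fun e => by rw [e, card_bot] at hU4; omega)
    obtain ⟨u, huU, huz⟩ : ∃ u ∈ U, u ∉ zpowers z := SetLike.not_le_iff_exists.1 fun hle => by
      have := card_le_of_le hle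
      rw [Nat.card_zpowers, hz, hU4] at this
      omega
    have hu1 : u ≠ 1 := fun e => huz (e ▸ one_mem _)
    have hu : orderOf u = 2 := orderOf_eq_prime (by rw [pow_two]; exact hU2 u huU) hu1
    have hne : u ≠ z := fun e => huz (e ▸ mem_zpowers z)
    have hzu : z * u ≠ 1 := fun e => hne
      ((inv_eq_of_mul_eq_one_right e).symm.trans (inv_eq_of_mul_eq_one_right (invol_sq hz)))
    refine ⟨U, z, u, hUn, hzc, hz, hu, hne, fun w => ⟨fun hw => ?_, ?_⟩⟩
    · by_contra hcon
      push Not at hcon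
      have hsub : ({1, z, u, z * u, w} : Finset S).card ≤ Nat.card U := by
        rw [← SetLike.coe_sort_coe, Nat.card_coe_set_eq, ← Set.ncard_coe_finset]
        refine Set.ncard_le_ncard ?_ (Set.toFinite _)
        intro p hp
        simp only [Finset.coe_insert, Finset.coe_singleton, Set.mem_insert_iff, Set.mem_singleton_iff] at hp
        rcases hp with rfl | rfl | rfl | rfl | rfl
        exacts [one_mem U, hzU, huU, mul_mem hzU huU, hw]
      rw [Finset.card_insert_of_notMem (by simp [(invol_ne hz).symm, hu1.symm, hzu.symm, hcon.1.symm]),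
        Finset.card_insert_of_notMem (by simp [hne.symm, hu1, hcon.2.1.symm]),
        Finset.card_insert_of_notMem (by simp [invol_ne hz, hcon.2.2.1.symm]),
        Finset.card_insert_of_notMem (by simp [hcon.2.2.2.symm]), Finset.card_singleton, hU4] at hsub
      omega
    · rintro (rfl | rfl | rfl | rfl)
      exacts [one_mem U, hzU, huU, mul_mem hzU huU]
  right
  unfold Cfsg.PRankLE at h1
  push Not at h1
  obtain ⟨A, -, hA2, hAcard⟩ := h1
  have hA2' : ∀ w ∈ A, w * w = 1 := fun w hw => by rw [← pow_two]; exact hA2 w hw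
  -- an involution outside a given cyclic subgroup
  have hout : ∀ a : S, ∃ x ∈ A, x ∉ zpowers a := by
    intro a
    refine SetLike.not_le_iff_exists.1 fun hle => ?_
    haveI : IsCyclic A := Subgroup.isCyclic_of_le hle
    obtain ⟨g, hg⟩ := IsCyclic.exists_ofOrder_eq_natCard (α := A)
    rw [pow_one] at hAcard
    have : orderOf g ∣ 2 := orderOf_dvd_of_pow_eq_one (Subtype.ext (hA2 g g.2))
    rw [hg] at this
    have := Nat.le_of_dvd two_pos this
    omega
  rcases KleinGammaRank.structure_of_no_normal_four hS ⊤ hno with ⟨a, ha⟩ | ⟨a, n, -, -, hao, hcos, hinv⟩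
  · obtain ⟨x, -, hxa⟩ := hout a
    exact absurd (ha ▸ mem_top x) hxa
  obtain ⟨x, hxA, hxa⟩ := hout a
  have hx : orderOf x = 2 := orderOf_eq_prime (hA2 x hxA) fun e => hxa (e ▸ one_mem _)
  set b := a ^ (2 ^ n) with hb
  have hbi : x * b * x⁻¹ = b⁻¹ := hinv x (mem_top x) hxa
  have hbb : b * b = a ^ (2 ^ (n + 1)) := by rw [hb, ← pow_add, ← two_mul, ← pow_succ']
  have hb4 : (b * b) * (b * b) = 1 := by
    rw [hbb, ← pow_add, ← two_mul, ← pow_succ', ← orderOf_dvd_iff_pow_eq_one, hao]
  have hbb1 : b * b ≠ 1 := by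
    rw [hbb, Ne, ← orderOf_dvd_iff_pow_eq_one, hao]
    intro h
    have := Nat.le_of_dvd (pow_pos two_pos _) h
    exact absurd this (not_le.2 (Nat.pow_lt_pow_right (by norm_num) (by omega)))
  have hxbb : x * (b * b) = b * b * x := by
    refine mul_inv_eq_iff_eq_mul.1 ?_
    rw [← conj_mul, hbi, ← mul_inv_rev]
    exact inv_eq_of_mul_eq_one_right hb4
  have hnb : x * b ≠ b * x := fun h => hbb1 (by
    have h' : x * b * x⁻¹ = b := by rw [h, mul_inv_cancel_right]
    rw [hbi] at h'
    nth_rewrite 1 [← h']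
    exact inv_mul_cancel b)
  have hin : b * b ∈ zpowers a := hbb ▸ pow_mem (mem_zpowers a) _
  refine ⟨x, hx, card_cent_four hx hxa (fun g hg => hcos x (mem_top x) hxa g (mem_top g) hg) hb4
    hbb1 hin hxbb fun c hc hxc => ?_⟩
  have hc2 : c * c = 1 := by
    by_contra hne
    obtain ⟨i, hi1, hi2⟩ := exists_sq_invol hS hne
    have hci : x * c ^ i = c ^ i * x := ((show Commute x c from hxc).pow_right i).eq
    rcases sq_eq_one_in_zpowers hao (mul_mem (pow_mem hc i) (pow_mem hc i)) hi2 with e | e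
    · exact hi1 e
    rw [← hbb] at e
    -- two square roots of the same involution differ by a square root of one
    obtain ⟨k, hk⟩ := pow_mem hc i
    have hcomm : Commute (c ^ i) b := by
      rw [← hk, hb]; exact ((Commute.refl a).pow_right _).zpow_left k
    have hd : (c ^ i * b⁻¹) * (c ^ i * b⁻¹) = 1 := by
      rw [← pow_two, hcomm.inv_right.mul_pow, pow_two, e, inv_pow, pow_two, mul_inv_cancel]
    rcases sq_eq_one_in_zpowers hao (mul_mem (pow_mem hc i) (inv_mem (pow_mem (mem_zpowers a) _))) hd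
      with e' | e'
    · exact hnb (by rw [show b = c ^ i from (mul_inv_eq_one.1 e').symm]; exact hci)
    · rw [← hbb, mul_inv_eq_iff_eq_mul] at e'
      rw [e'] at hci
      refine hnb (mul_left_cancel (a := b * b) ?_)
      calc b * b * (x * b) = x * (b * b * b) := by rw [← mul_assoc, ← hxbb]; group
        _ = b * b * b * x := hci
        _ = b * b * (b * x) := by group
  rw [hbb]
  exact sq_eq_one_in_zpowers hao hc hc2

end Cfsg.Agent.AlperinRankTwo
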