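import Cfsg.Agent.Lib.AlperinRankTwo.Basic
import Cfsg.Agent.S1237
import Cfsg.Agent.S3315

/-!
2-groups of rank two with an abstract fusion relation moving every central involution: dihedral,
quasi-dihedral, wreathed, homocyclic, or the Sylow 2-subgroup of `PSU₃(4)`.
-/

set_option autoImplicit false
set_option linter.unusedSectionVars false
set_option linter.style.haveILetI false

namespace Cfsg.Agent.AlperinRankTwo

open Subgroup

universe u

/-- The part of a saturated fusion relation that the argument uses. -/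
structure Fus (S : Type u) [Group S] where
  R : S → S → Prop
  symm : ∀ {x y}, R x y → R y x
  ext : ∀ {x z}, z ∈ center S → R x z → ∃ χ : centralizer ({x} : Set S) →* S,
    Function.Injective χ ∧ (∀ h, χ ⟨x, h⟩ = z) ∧ ∀ w : centralizer ({x} : Set S), R w (χ w)
  moved : ∀ z : S, z ∈ center S → orderOf z = 2 → ∃ x, x ≠ z ∧ R x z

variable {S : Type u} [Group S] [Finite S]

theorem cyc {a b c : S} (hall : ∀ s : S, orderOf s = 2 → s = a ∨ s = b ∨ s = c) (hc : orderOf c = 2)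
    (hac : a ≠ c) (hbc : b ≠ c) (β : MulAut S) (hab : β a = b) (hbc' : β b = c) :
    ∀ s t : S, orderOf s = 2 → orderOf t = 2 → ∃ k : ℕ, (β ^ k) s = t := by
  have hca : β c = a := by
    rcases hall (β c) (by rw [MulEquiv.orderOf_eq, hc]) with e | e | e
    · exact e
    · exact absurd (β.injective (e.trans hab.symm)) hac.symm
    · exact absurd (β.injective (e.trans hbc'.symm)) hbc.symm
  have h3 : (β ^ 3) a = a := by simp [pow_succ, MulAut.mul_apply, hab, hbc', hca]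
  have hi : ∀ s, orderOf s = 2 → ∃ i, i ≤ 2 ∧ (β ^ i) a = s := by
    intro s hs
    rcases hall s hs with rfl | rfl | rfl
    · exact ⟨0, by norm_num, rfl⟩
    · exact ⟨1, by norm_num, by rw [pow_one, hab]⟩
    · exact ⟨2, le_rfl, by rw [pow_two, MulAut.mul_apply, hab, hbc']⟩
  intro s t hs ht
  obtain ⟨i, hi2, rfl⟩ := hi s hs
  obtain ⟨j, -, rfl⟩ := hi t ht
  refine ⟨j + 3 - i, ?_⟩
  rw [← MulAut.mul_apply, ← pow_add, show j + 3 - i + i = j + 3 by omega, pow_add, MulAut.mul_apply, h3]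

/-- Automorphisms moving into each of three involutions generate a cycle. -/
theorem moves {z v w : S} (hall : ∀ s : S, orderOf s = 2 → s = z ∨ s = v ∨ s = w) (hz : orderOf z = 2)
    (hv : orderOf v = 2) (hw : orderOf w = 2) (hzv : z ≠ v) (hzw : z ≠ w) (hvw : v ≠ w)
    (α α' : MulAut S) (hα : α v = z) (hα' : α' z = w ∨ α' v = w) :
    ∃ β : MulAut S, ∀ s t : S, orderOf s = 2 → orderOf t = 2 → ∃ k : ℕ, (β ^ k) s = t := by
  have hall1 : ∀ s : S, orderOf s = 2 → s = v ∨ s = z ∨ s = w := fun s hs =>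
    (hall s hs).elim (fun e => Or.inr (Or.inl e)) fun h => h.elim Or.inl fun e => Or.inr (Or.inr e)
  rcases hall _ ((MulEquiv.orderOf_eq α z).trans hz) with e | e | e
  · exact absurd (α.injective (e.trans hα.symm)) hzv
  swap
  · exact ⟨α, cyc hall1 hw hvw hzw α hα e⟩
  rcases hα' with h | h
  · rcases hall _ ((MulEquiv.orderOf_eq α' v).trans hv) with e' | e' | e'
    · exact ⟨α', cyc hall1 hw hvw hzw α' e' h⟩
    · exact ⟨α' * α, cyc hall hw hzw hvw (α' * α) (by rw [MulAut.mul_apply, e, e'])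
        (by rw [MulAut.mul_apply, hα, h])⟩
    · exact absurd (α'.injective (h.trans e'.symm)) hzv
  · rcases hall _ ((MulEquiv.orderOf_eq α' z).trans hz) with e' | e' | e'
    · exact ⟨α' * α, cyc hall1 hw hvw hzw (α' * α) (by rw [MulAut.mul_apply, hα, e'])
        (by rw [MulAut.mul_apply, e, h])⟩
    · exact ⟨α', cyc hall hw hzw hvw α' e' h⟩
    · exact absurd (α'.injective (e'.trans h.symm)) hzv

theorem prankLE_subgroup {p k : ℕ} (h : Cfsg.PRankLE p k S) (H : Subgroup S) : Cfsg.PRankLE p k H := by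
  intro A hA hAp
  haveI := hA
  rw [← card_map_of_injective (f := H.subtype) H.subtype_injective]
  refine h _ inferInstance ?_
  rintro _ ⟨a, ha, rfl⟩
  rw [← map_pow, hAp a ha, map_one]

theorem half {m : ℕ} (x : ZMod (2 ^ (m + 1))) (h : x + x = 0) :
    ∃ k : ZMod (2 ^ (m + 1)), x = (2 ^ m) • k := by
  haveI : NeZero (2 ^ (m + 1)) := ⟨pow_ne_zero _ two_ne_zero⟩
  have h0 : ((x.val + x.val : ℕ) : ZMod (2 ^ (m + 1))) = 0 := by
    rw [Nat.cast_add, ZMod.natCast_zmod_val, h]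
  have h1 : 2 * 2 ^ m ∣ 2 * x.val := by
    rw [← pow_succ', two_mul]; exact (ZMod.natCast_eq_zero_iff _ _).1 h0
  obtain ⟨k, hk⟩ := (Nat.mul_dvd_mul_iff_left two_pos).1 h1
  exact ⟨k, by rw [nsmul_eq_mul, ← Nat.cast_mul, ← hk, ZMod.natCast_zmod_val]⟩

section four

variable {U : Subgroup S} {z u : S}

/-- In the abelian case every involution is moved by an automorphism. -/
theorem Four.transitive_top (F : Four U z u) (h2 : Cfsg.PRankLE 2 2 S) (Φ : Fus S)
    (htop : ∀ g : S, g ∈ centralizer (U : Set S)) :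
    ∃ β : MulAut S, ∀ s t : S, orderOf s = 2 → orderOf t = 2 → ∃ k : ℕ, (β ^ k) s = t := by
  have hc : ∀ s, orderOf s = 2 → s ∈ center S := fun s hs =>
    mem_center_iff.2 fun g => (mem_centralizer_iff.1 (htop g) s
      (F.invol_mem h2 (htop s) (invol_sq hs))).symm
  have hmove : ∀ c, orderOf c = 2 → ∃ q, q ≠ c ∧ orderOf q = 2 ∧ ∃ α : MulAut S, α q = c := by
    intro c hc2
    obtain ⟨q, hq, hR⟩ := Φ.moved c (hc c hc2) hc2
    obtain ⟨χ, hχ, hχq, -⟩ := Φ.ext (hc c hc2) hR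
    have hqm : q ∈ centralizer ({q} : Set S) := mem_centralizer_singleton_iff.2 rfl
    have hq2 : orderOf q = 2 := by
      rw [← hc2, ← hχq hqm, orderOf_injective χ hχ, orderOf_mk]
    have hall : ∀ g, g ∈ centralizer ({q} : Set S) := fun g =>
      mem_centralizer_singleton_iff.2 (mem_center_iff.1 (hc q hq2) g)
    refine ⟨q, hq, hq2, MulEquiv.ofBijective (χ.comp ((MonoidHom.id S).codRestrict _ hall))
      (Finite.injective_iff_bijective.1 fun a b e => congrArg Subtype.val (hχ e)), hχq _⟩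
  obtain ⟨v, hvz, hv, α, hα⟩ := hmove z F.z2
  obtain ⟨F', hFv⟩ : ∃ v', Four U z v' ∧ v' = v := by
    rcases F.cases_of_T h2 (htop v) hv with e | e | e
    · exact absurd e hvz
    · exact ⟨u, F, e.symm⟩
    · exact ⟨z * u, F.swap, e.symm⟩
  obtain ⟨hF, rfl⟩ := hFv
  obtain ⟨q, hq, hq2, α', hα'⟩ := hmove _ hF.zu2
  refine moves (fun s hs => hF.cases_of_T h2 (htop s) hs) F.z2 hv hF.zu2 hF.ne.symm hF.zu_ne_z.symm
    hF.zu_ne_u.symm α α' hα ?_
  rcases hF.cases_of_T h2 (htop q) hq2 with rfl | rfl | rfl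
  · exact Or.inl hα'
  · exact Or.inr hα'
  · exact absurd rfl hq

/-- A map on `T` sending a noncentral element of the four-group to `z` comes from an automorphism of `T`. -/
theorem Four.exists_aut (F : Four U z u) (h2 : Cfsg.PRankLE 2 2 S)
    (hB : ∀ x, x ∉ centralizer (U : Set S) → orderOf x = 2 →
      ∃ w ∈ centralizer (U : Set S), x * w = w * x ∧ w * w = z)
    (Φ : Fus S) (hR : Φ.R u z) :
    ∃ α : MulAut (centralizer (U : Set S)),
      ((α ⟨u, F.le_T F.uU⟩ : centralizer (U : Set S)) : S) = z := by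
  obtain ⟨χ, hχ, hχu, -⟩ := Φ.ext F.zc hR
  set T := centralizer (U : Set S) with hT
  let f : T →* S := χ.comp (inclusion F.cent_u.symm.le)
  have hf : Function.Injective f := hχ.comp (inclusion_injective _)
  have hfu : f ⟨u, F.le_T F.uU⟩ = z := hχu _
  have hzT : z ∈ T := F.le_T F.zU
  set y := f ⟨z, hzT⟩ with hy
  have hy2 : orderOf y = 2 := by rw [hy, orderOf_injective f hf, orderOf_mk, F.z2]
  have hyc : ∀ w, f w * y = y * f w := fun w => by
    rw [hy, ← map_mul, ← map_mul]; exact congrArg f (Subtype.ext (F.comm w))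
  by_cases hyT : y ∈ T
  · have hin : ∀ w, f w ∈ T := by
      intro w
      rcases F.cases_of_T h2 hyT hy2 with e | e | e
      · exact absurd (congrArg Subtype.val (hf (e.trans hfu.symm))) F.ne.symm
      · exact F.mem_T.2 (e ▸ hyc w)
      · exact F.swap.mem_T.2 (e ▸ hyc w)
    exact ⟨MulEquiv.ofBijective (f.codRestrict T hin)
      (Finite.injective_iff_bijective.1 fun a b e => hf (congrArg Subtype.val e)), hfu⟩
  exfalso
  have hne : centralizer ({y} : Set S) ≠ ⊤ := fun e =>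
    hyT (F.mem_T.2 (mem_centralizer_singleton_iff.1 (show u ∈ _ from e ▸ mem_top u)).symm)
  have hrange : f.range = centralizer ({y} : Set S) := by
    refine eq_of_le_of_card_ge (fun s ⟨w, hw⟩ => mem_centralizer_singleton_iff.2 (hw ▸ hyc w)) ?_
    have h1 : 1 < (centralizer ({y} : Set S)).index := one_lt_index_of_ne_top hne
    have h3 : Nat.card f.range = Nat.card T := Nat.card_congr (f.ofInjective hf).toEquiv.symm
    have h4 := T.card_mul_index
    rw [F.index_two hyT, ← (centralizer ({y} : Set S)).card_mul_index] at h4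
    rw [h3]
    nlinarith
  obtain ⟨w, hw, hyw, hwz⟩ := hB y hyT hy2
  obtain ⟨w0, rfl⟩ : w ∈ f.range := hrange ▸ mem_centralizer_singleton_iff.2 hyw.symm
  have hw0 : (w0 : S) * w0 = u :=
    congrArg Subtype.val (hf (((map_mul f w0 w0).trans hwz).trans hfu.symm))
  haveI hTn : T.Normal := normal_of_index_eq_two (F.index_two hyT)
  let t : T := ⟨y * w0 * y⁻¹, hTn.conj_mem _ w0.2 y⟩
  have htt : t * t = ⟨z, hzT⟩ * ⟨u, F.le_T F.uU⟩ := Subtype.ext (by
    show y * w0 * y⁻¹ * (y * w0 * y⁻¹) = z * u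
    rw [show y * (w0 : S) * y⁻¹ * (y * w0 * y⁻¹) = y * ((w0 : S) * w0) * y⁻¹ by group, hw0, F.conj_u hyT])
  refine hyT ?_
  have hyz : y * z ∈ T := by
    rw [hy, show f ⟨z, hzT⟩ * z = f (⟨z, hzT⟩ * ⟨u, F.le_T F.uU⟩) by rw [map_mul, hfu], ← htt, map_mul]
    exact mul_self_mem_of_index_two (F.index_two hyT) (f t)
  simpa using mul_mem hyz (inv_mem hzT)

/-- In the index two case some automorphism of `T` is transitive on involutions. -/
theorem Four.transitive_T (F : Four U z u) (h2 : Cfsg.PRankLE 2 2 S) {g : S}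
    (hg : g ∉ centralizer (U : Set S))
    (hB : ∀ x, x ∉ centralizer (U : Set S) → orderOf x = 2 →
      ∃ w ∈ centralizer (U : Set S), x * w = w * x ∧ w * w = z)
    (Φ : Fus S) :
    ∃ β : MulAut (centralizer (U : Set S)), ∀ s t : centralizer (U : Set S),
      orderOf s = 2 → orderOf t = 2 → ∃ k : ℕ, (β ^ k) s = t := by
  set T := centralizer (U : Set S) with hT
  obtain ⟨x, hxz, hR⟩ := Φ.moved z F.zc F.z2
  obtain ⟨χ, hχ, hχx, hχR⟩ := Φ.ext F.zc hR
  have hxm : x ∈ centralizer ({x} : Set S) := mem_centralizer_singleton_iff.2 rfl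
  have hx2 : orderOf x = 2 := by rw [← F.z2, ← hχx hxm, orderOf_injective χ hχ, orderOf_mk]
  obtain ⟨v, hv, hRv⟩ : ∃ v, Four U z v ∧ Φ.R v z := by
    have aux : ∀ v, v ∈ T → orderOf v = 2 → v ≠ z → Φ.R v z → ∃ v, Four U z v ∧ Φ.R v z := by
      intro v hvT hv2 hvz hRv
      rcases F.cases_of_T h2 hvT hv2 with rfl | rfl | rfl
      · exact absurd rfl hvz
      · exact ⟨_, F, hRv⟩
      · exact ⟨_, F.swap, hRv⟩
    by_cases hxT : x ∈ T
    · exact aux x hxT hx2 hxz hR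
    obtain ⟨w, hw, hxw, hwz⟩ := hB x hxT hx2
    have hzm : z ∈ centralizer ({x} : Set S) := mem_centralizer_singleton_iff.2 (F.comm x).symm
    have hwm : w ∈ centralizer ({x} : Set S) := mem_centralizer_singleton_iff.2 hxw.symm
    refine aux (χ ⟨z, hzm⟩) ?_ (by rw [orderOf_injective χ hχ, orderOf_mk, F.z2]) ?_
      (Φ.symm (hχR ⟨z, hzm⟩))
    · rw [show (⟨z, hzm⟩ : centralizer ({x} : Set S)) = ⟨w, hwm⟩ * ⟨w, hwm⟩ from Subtype.ext hwz.symm,
        map_mul]
      exact mul_self_mem_of_index_two (F.index_two hxT) _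
    · intro e
      exact hxz (congrArg Subtype.val (hχ (e.trans (hχx hxm).symm))).symm
  obtain ⟨α, hα⟩ := hv.exists_aut h2 hB Φ hRv
  haveI : T.Normal := normal_of_index_eq_two (F.index_two hg)
  let zT : T := ⟨z, hv.le_T hv.zU⟩
  let vT : T := ⟨v, hv.le_T hv.uU⟩
  let wT : T := ⟨z * v, hv.le_T ((hv.mem _).2 (Or.inr (Or.inr (Or.inr rfl))))⟩
  refine moves (z := zT) (v := vT) (w := wT) (fun s hs => ?_) ((orderOf_mk _ _).trans hv.z2)
    ((orderOf_mk _ _).trans hv.u2) ((orderOf_mk _ _).trans hv.zu2)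
    (fun e => hv.ne (congrArg Subtype.val e).symm)
    (fun e => hv.zu_ne_z (congrArg Subtype.val e).symm)
    (fun e => hv.zu_ne_u (congrArg Subtype.val e).symm) α (MulAut.conjNormal g) (Subtype.ext hα)
    (Or.inr (Subtype.ext ?_))
  · rcases hv.cases_of_T h2 s.2 (by rw [orderOf_coe, hs]) with e | e | e
    · exact Or.inl (Subtype.ext e)
    · exact Or.inr (Or.inl (Subtype.ext e))
    · exact Or.inr (Or.inr (Subtype.ext e))
  · rw [MulAut.conjNormal_apply]
    exact hv.conj_u hg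

/-- The homocyclic case with `T` of index two gives a wreathed group. -/
theorem Four.wreathed (F : Four U z u) (hS : IsPGroup 2 S) {g : S}
    (hg : g ∉ centralizer (U : Set S))
    (hB : ∀ x, x ∉ centralizer (U : Set S) → orderOf x = 2 →
      ∃ w ∈ centralizer (U : Set S), x * w = w * x ∧ w * w = z)
    {m : ℕ} (e : centralizer (U : Set S) ≃*
      Multiplicative (ZMod (2 ^ (m + 1)) × ZMod (2 ^ (m + 1)))) :
    Cfsg.IsWreathed S := by
  set T := centralizer (U : Set S) with hT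
  haveI hTn : T.Normal := normal_of_index_eq_two (F.index_two hg)
  haveI : Fact (Nat.Prime 2) := ⟨Nat.prime_two⟩
  haveI : NeZero (2 ^ (m + 1)) := ⟨pow_ne_zero _ two_ne_zero⟩
  have hcomm : ∀ p ∈ T, ∀ q ∈ T, p * q = q * p := fun p hp q hq =>
    congrArg Subtype.val (e.injective
      ((map_mul e ⟨p, hp⟩ ⟨q, hq⟩).trans ((mul_comm _ _).trans (map_mul e ⟨q, hq⟩ ⟨p, hp⟩).symm)))
  have hexp : ∀ p : T, p ^ 2 ^ (m + 1) = 1 := fun p => e.injective (by
    rw [map_pow, map_one]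
    refine Multiplicative.toAdd.injective ?_
    rw [toAdd_pow, toAdd_one]
    ext <;> simp only [Prod.smul_fst, Prod.smul_snd, Prod.fst_zero, Prod.snd_zero, Prod.fst_mul,
      Prod.snd_mul, Prod.fst_natCast, Prod.snd_natCast, nsmul_eq_mul, ZMod.natCast_self, zero_mul])
  obtain ⟨a, hau⟩ : ∃ a : T, ((a ^ 2 ^ m : T) : S) = u := by
    set c := (e ⟨u, F.le_T F.uU⟩).toAdd with hc
    have h0 : c + c = 0 := by
      rw [hc, ← toAdd_mul, ← map_mul, show (⟨u, F.le_T F.uU⟩ : T) * ⟨u, F.le_T F.uU⟩ = 1 from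
        Subtype.ext (invol_sq F.u2), map_one, toAdd_one]
    obtain ⟨k, hk⟩ := half c.1 (congrArg Prod.fst h0)
    obtain ⟨l, hl⟩ := half c.2 (congrArg Prod.snd h0)
    refine ⟨e.symm (Multiplicative.ofAdd (k, l)), ?_⟩
    have : e.symm (Multiplicative.ofAdd (k, l)) ^ 2 ^ m = (⟨u, F.le_T F.uU⟩ : T) := by
      refine e.injective (Multiplicative.toAdd.injective ?_)
      rw [map_pow, e.apply_symm_apply, toAdd_pow, toAdd_ofAdd, ← hc]
      exact Prod.ext hk.symm hl.symm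
    rw [this]
  rw [SubmonoidClass.coe_pow] at hau
  obtain ⟨a, haT⟩ := a
  simp only at hau
  have ha : orderOf a = 2 ^ (m + 1) := orderOf_eq_prime_pow (by rw [hau]; exact invol_ne F.u2)
    (congrArg Subtype.val (hexp ⟨a, haT⟩))
  set b := g * a * g⁻¹ with hb
  have hbT : b ∈ T := hTn.conj_mem a haT g
  have hbu : b ^ 2 ^ m = z * u := by rw [hb, conj_pow, hau, F.conj_u hg]
  have hbo : orderOf b = 2 ^ (m + 1) := orderOf_eq_prime_pow (by rw [hbu]; exact invol_ne F.zu2)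
    (congrArg Subtype.val (hexp ⟨b, hbT⟩))
  have hdis : zpowers a ⊓ zpowers b = ⊥ := by
    by_contra hne
    obtain ⟨k, hk⟩ := (hS.to_subgroup (zpowers a ⊓ zpowers b)).exists_card_eq
    have hk0 : k ≠ 0 := fun h => hne (card_eq_one.1 (by rw [hk, h, pow_zero]))
    obtain ⟨v, hv⟩ := exists_prime_orderOf_dvd_card' 2 (hk ▸ dvd_pow_self 2 hk0)
    have hvv : (v : S) * v = 1 := congrArg Subtype.val (invol_sq hv)
    have hv1 : (v : S) ≠ 1 := fun h => invol_ne hv (Subtype.ext h)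
    have e1 := (sq_eq_one_in_zpowers ha v.2.1 hvv).resolve_left hv1
    have e2 := (sq_eq_one_in_zpowers hbo v.2.2 hvv).resolve_left hv1
    exact F.zu_ne_u (by rw [← hbu, ← e2, e1, hau])
  have hTcard : Nat.card T = 2 ^ (m + 1) * 2 ^ (m + 1) := by
    rw [Nat.card_congr e.toEquiv, Nat.card_congr Multiplicative.toAdd, Nat.card_prod, Nat.card_zmod]
  have hgT : g * g ∈ T := mul_self_mem_of_index_two (F.index_two hg) g
  obtain ⟨i, j, hij⟩ : ∃ i j : ℤ, g * g = a ^ i * b ^ j := by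
    let f : zpowers a × zpowers b → T := fun p =>
      ⟨p.1 * p.2, mul_mem (zpowers_le.2 haT p.1.2) (zpowers_le.2 hbT p.2.2)⟩
    have hf : Function.Bijective f := by
      refine (Nat.bijective_iff_injective_and_card f).2 ⟨fun p q h => ?_, ?_⟩
      · have h' : (p.1 : S) * p.2 = q.1 * q.2 := congrArg Subtype.val h
        exact Prod.ext_iff.2 (mul_injective_of_disjoint (disjoint_iff.2 hdis) h' |> Prod.ext_iff.1)
      · rw [Nat.card_prod, Nat.card_zpowers, Nat.card_zpowers, ha, hbo, hTcard]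
    obtain ⟨⟨⟨_, i, rfl⟩, ⟨_, j, rfl⟩⟩, h⟩ := hf.2 ⟨g * g, hgT⟩
    exact ⟨i, j, (congrArg Subtype.val h).symm⟩
  have hai : ∀ k : ℤ, g * a ^ k * g⁻¹ = b ^ k := fun k => by rw [hb, conj_zpow]
  have hbi : ∀ k : ℤ, g * b ^ k * g⁻¹ = a ^ k := fun k => by
    rw [← hai, show g * (g * a ^ k * g⁻¹) * g⁻¹ = g * g * a ^ k * (g * g)⁻¹ by group,
      hcomm _ hgT _ (zpow_mem haT k), mul_inv_cancel_right]
  have hab : ∀ k l : ℤ, a ^ k * b ^ l = b ^ l * a ^ k := fun k l =>
    hcomm _ (zpow_mem haT k) _ (zpow_mem hbT l)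
  have hij' : b ^ j = b ^ i := by
    have h1 : a ^ i * b ^ j = a ^ j * b ^ i := by
      rw [← hij, show g * g = g * (g * g) * g⁻¹ by group, hij,
        show g * (a ^ i * b ^ j) * g⁻¹ = g * a ^ i * g⁻¹ * (g * b ^ j * g⁻¹) by group, hai, hbi, hab]
    have h2 : (a ^ j)⁻¹ * a ^ i = b ^ i * (b ^ j)⁻¹ := by
      rw [eq_mul_inv_iff_mul_eq, mul_assoc, h1, inv_mul_cancel_left]
    have h3 : b ^ i * (b ^ j)⁻¹ ∈ (⊥ : Subgroup S) := hdis ▸ mem_inf.2
      ⟨h2 ▸ mul_mem (inv_mem (zpow_mem (mem_zpowers a) j)) (zpow_mem (mem_zpowers a) i),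
        mul_mem (zpow_mem (mem_zpowers b) i) (inv_mem (zpow_mem (mem_zpowers b) j))⟩
    exact (mul_inv_eq_one.1 (mem_bot.1 h3)).symm
  rw [hij'] at hij
  set x := g * (a ^ i)⁻¹ with hx
  have hxT : x ∉ T := fun h => hg (by
    have := mul_mem h (zpow_mem haT i); rwa [hx, inv_mul_cancel_right] at this)
  have hx2 : orderOf x = 2 := by
    refine orderOf_eq_prime ?_ fun h => hxT (h ▸ one_mem T)
    rw [pow_two, hx, show g * (a ^ i)⁻¹ * (g * (a ^ i)⁻¹) =
      (g * a ^ i * g⁻¹)⁻¹ * (g * g) * (a ^ i)⁻¹ by group, hai, hij, hab i i]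
    group
  obtain ⟨w, hw, -, hwz⟩ := hB x hxT hx2
  have hm : m ≠ 0 := fun h => invol_ne F.z2 (by
    have := congrArg Subtype.val (hexp ⟨w, hw⟩)
    rw [h] at this
    rw [← hwz, ← pow_two]; simpa using this)
  refine ⟨m + 1, by omega, ?_, a, b, x, ha, by simpa using hab 1 1, hdis, hx2, ?_⟩
  · rw [← T.card_mul_index, F.index_two hg, hTcard]; ring
  · rw [hx, hb]; group

theorem Four.index_two_case (F : Four U z u) (hS : IsPGroup 2 S) (h2 : Cfsg.PRankLE 2 2 S) {g : S}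
    (hg : g ∉ centralizer (U : Set S)) (Φ : Fus S)
    {K : Type*} [Field K] [Fintype K] (hK : Fintype.card K = 16) (P : Sylow 2 (Cfsg.PSU 3 K 4))
    (hB : ∀ x, x ∉ centralizer (U : Set S) → orderOf x = 2 →
      ∃ w ∈ centralizer (U : Set S), x * w = w * x ∧ w * w = z) :
    Cfsg.IsWreathed S := by
  set T := centralizer (U : Set S) with hT
  obtain ⟨β, hβ⟩ := F.transitive_T h2 hg hB Φ
  have h1 : ¬ Cfsg.PRankLE 2 1 T := fun h => by
    have := h (U.subgroupOf T) ⟨⟨fun p q => Subtype.ext (Subtype.ext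
        (mem_centralizer_iff.1 (F.le_T q.2) _ p.2))⟩⟩
      (fun p hp => Subtype.ext (by rw [pow_two]; exact F.sq_mem hp))
    rw [Nat.card_congr (subgroupOfEquivOfLe F.le_T).toEquiv, F.card_four] at this
    norm_num at this
  rcases S1237.result (hS.to_subgroup T) (prankLE_subgroup h2 T) h1 β hβ hK P with
    ⟨n, hn, ⟨e⟩⟩ | ⟨⟨e⟩⟩
  · obtain ⟨m, rfl⟩ : ∃ m, n = m + 1 := ⟨n - 1, by omega⟩
    exact F.wreathed hS hg hB e
  · exfalso
    obtain ⟨_, σ, _, hne, hσ, hq⟩ := SU3Sylow.setup (F := K) (n := 2) (by norm_num)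
      (by rw [hK]; norm_num)
    obtain ⟨e'⟩ := SU3Sylow.sylow_PSU_equiv hne (n := 2) (by norm_num) hσ hq P
    have huc : u ∈ center S := S3315.key hne (F.index_two hg) (e.trans e')
      ⟨⟨u, F.le_T F.uU⟩, mem_center_iff.2 fun t => Subtype.ext (F.mem_T.1 t.2), rfl⟩
    exact hg (F.mem_T.2 (mem_center_iff.1 huc g))

end four

/-- 2-groups of rank two supporting fusion without isolated involution. -/
theorem main (hS : IsPGroup 2 S) (h2 : Cfsg.PRankLE 2 2 S) (h1 : ¬ Cfsg.PRankLE 2 1 S) (Φ : Fus S)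
    {K : Type*} [Field K] [Fintype K] (hK : Fintype.card K = 16) (P : Sylow 2 (Cfsg.PSU 3 K 4)) :
    (∃ m : ℕ, 2 ≤ m ∧ Nonempty (S ≃* DihedralGroup m)) ∨ Cfsg.IsQuasiDihedral S ∨ Cfsg.IsWreathed S ∨
      (∃ n : ℕ, 2 ≤ n ∧ Nonempty (S ≃* Multiplicative (ZMod (2 ^ n) × ZMod (2 ^ n)))) ∨
      Nonempty (S ≃* (P : Subgroup (Cfsg.PSU 3 K 4))) := by
  rcases four_or_small hS h1 with ⟨U, z, u, F⟩ | ⟨x, hx, hC⟩
  swap
  · exact (dih_or_qd hS h1 hx hC).imp_right Or.inl
  by_cases htop : ∀ g : S, g ∈ centralizer (U : Set S)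
  · obtain ⟨β, hβ⟩ := F.transitive_top h2 Φ htop
    rcases S1237.result hS h2 h1 β hβ hK P with ⟨n, hn, ⟨e⟩⟩ | he
    · rcases eq_or_lt_of_le hn with rfl | hn
      · haveI := klein_of_card_four (by
          rw [Nat.card_congr e.toEquiv, Nat.card_congr Multiplicative.toAdd, Nat.card_prod, Nat.card_zmod]
          norm_num) h1
        exact Or.inl ⟨2, le_rfl, IsKleinFour.nonempty_mulEquiv⟩
      · exact Or.inr (Or.inr (Or.inr (Or.inl ⟨n, hn, ⟨e⟩⟩)))
    · exact Or.inr (Or.inr (Or.inr (Or.inr he)))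
  push Not at htop
  obtain ⟨g, hg⟩ := htop
  by_cases hA : ∃ x, x ∉ centralizer (U : Set S) ∧ orderOf x = 2 ∧
      ∀ w ∈ centralizer (U : Set S), x * w = w * x → w * w ≠ z
  · obtain ⟨x, hxT, hx, hno⟩ := hA
    exact (dih_or_qd hS h1 hx (F.cent_four hS h2 hxT hx hno)).imp_right Or.inl
  push Not at hA
  exact Or.inr (Or.inr (Or.inl (F.index_two_case hS h2 hg Φ hK P hA)))

end Cfsg.Agent.AlperinRankTwo
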