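import Cfsg.Prelude.Def_TwoFusion
import Cfsg.Agent.Lib.AlperinRankTwo.Main

/-!
The rank two theorem for a Sylow 2-subgroup of a group without isolated involutions.
-/

set_option autoImplicit false
set_option linter.unusedSectionVars false

namespace Cfsg.Agent.AlperinRankTwo

open Subgroup

universe u

variable {G : Type u} [Group G] [Finite G] (S : Sylow 2 G)

theorem conj_into_sylow {C Q : Subgroup G} (hSC : (S : Subgroup G) ≤ C) (hQC : Q ≤ C) (hQ : IsPGroup 2 Q) :
    ∃ c ∈ C, ∀ q ∈ Q, c * q * c⁻¹ ∈ S := by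
  haveI : Fact (Nat.Prime 2) := ⟨Nat.prime_two⟩
  obtain ⟨R, hR⟩ := (hQ.of_equiv (subgroupOfEquivOfLe hQC).symm).exists_le_sylow
  obtain ⟨c, hc⟩ := MulAction.exists_smul_eq C R (S.subtype hSC)
  refine ⟨c, c.2, fun q hq => ?_⟩
  have h : c • (⟨q, hQC hq⟩ : C) = c * ⟨q, hQC hq⟩ := rfl
  have hm : c * ⟨q, hQC hq⟩ * c⁻¹ ∈ ((c • R : Sylow 2 C) : Subgroup C) := by
    rw [Sylow.coe_subgroup_smul]
    exact ⟨⟨q, hQC hq⟩, hR (by exact hq), rfl⟩
  rw [hc] at hm
  exact hm

theorem le_centralizer_of_center {z : (S : Subgroup G)} (hz : z ∈ Subgroup.center (S : Subgroup G)) :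
    (S : Subgroup G) ≤ centralizer ({(z : G)} : Set G) := fun s hs =>
  mem_centralizer_singleton_iff.2 (congrArg Subtype.val (mem_center_iff.1 hz ⟨s, hs⟩))

theorem not_prankLE_one {H : Type*} [Group H] [Finite H] (P : Sylow 2 H) (h : ¬ Cfsg.PRankLE 2 1 H) :
    ¬ Cfsg.PRankLE 2 1 (P : Subgroup H) := by
  intro hP
  haveI : Fact (Nat.Prime 2) := ⟨Nat.prime_two⟩
  refine h fun A hA hA2 => ?_
  have hAp : IsPGroup 2 A := fun a => ⟨1, Subtype.ext (by simpa using hA2 a a.2)⟩
  obtain ⟨c, -, hc⟩ := conj_into_sylow P (C := ⊤) le_top le_top hAp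
  haveI := hA
  let f : A →* (P : Subgroup H) :=
    ((MulAut.conj c).toMonoidHom.comp A.subtype).codRestrict _ fun a => hc a a.2
  have hf : Function.Injective f := fun a b e =>
    Subtype.ext ((MulAut.conj c).injective (congrArg Subtype.val e))
  rw [Nat.card_congr (f.ofInjective hf).toEquiv]
  refine hP f.range inferInstance ?_
  rintro _ ⟨a, rfl⟩
  rw [← map_pow, show a ^ 2 = 1 from Subtype.ext (hA2 a a.2), map_one]

/-- The fusion relation of a group without isolated involution on a Sylow 2-subgroup. -/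
def fusOfGroup (hiso : ∀ z : G, ¬ Cfsg.IsIsolatedInvolution z) : Fus (S : Subgroup G) where
  R x y := ∃ g : G, g * x * g⁻¹ = y
  symm := fun ⟨g, hg⟩ => ⟨g⁻¹, by rw [← hg]; group⟩
  ext := by
    intro x z hz ⟨g, hg⟩
    set Q := (centralizer ({x} : Set (S : Subgroup G))).map
      ((MulAut.conj g).toMonoidHom.comp (S : Subgroup G).subtype) with hQ
    have hQp : IsPGroup 2 Q := (S.2.to_subgroup _).map _
    have hQC : Q ≤ centralizer ({(z : G)} : Set G) := by
      rintro _ ⟨w, hw, rfl⟩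
      refine mem_centralizer_singleton_iff.2 ?_
      show g * (w : G) * g⁻¹ * z = z * (g * (w : G) * g⁻¹)
      rw [← hg, show g * (w : G) * g⁻¹ * (g * x * g⁻¹) = g * ((w * x : (S : Subgroup G)) : G) * g⁻¹ by
        rw [coe_mul]; group, mem_centralizer_singleton_iff.1 hw, coe_mul]
      group
    obtain ⟨c, hc, hcS⟩ := conj_into_sylow S (le_centralizer_of_center S hz) hQC hQp
    refine ⟨((MulAut.conj (c * g)).toMonoidHom.comp
      ((S : Subgroup G).subtype.comp (centralizer ({x} : Set (S : Subgroup G))).subtype)).codRestrict _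
        fun w => ?_, fun a b e => ?_, fun h => ?_, fun w => ⟨c * g, rfl⟩⟩
    · show c * g * (w : G) * (c * g)⁻¹ ∈ (S : Subgroup G)
      rw [show c * g * (w : G) * (c * g)⁻¹ = c * (g * (w : G) * g⁻¹) * c⁻¹ by group]
      exact hcS _ ⟨w, w.2, rfl⟩
    · exact Subtype.ext (Subtype.ext ((MulAut.conj (c * g)).injective (congrArg Subtype.val e)))
    · refine Subtype.ext ?_
      show c * g * (x : G) * (c * g)⁻¹ = z
      rw [show c * g * (x : G) * (c * g)⁻¹ = c * (g * x * g⁻¹) * c⁻¹ by group, hg,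
        mul_inv_eq_iff_eq_mul]
      exact mem_centralizer_singleton_iff.1 hc
  moved := by
    intro z hz hz2
    obtain ⟨g, hcm, hne⟩ : ∃ g : G, Commute (z : G) (g * z * g⁻¹) ∧ g * z * g⁻¹ ≠ z := by
      by_contra hno
      push Not at hno
      exact hiso z ⟨by rw [orderOf_coe, hz2], fun g h => hno g h⟩
    obtain ⟨c, hc, hcS⟩ := conj_into_sylow S (le_centralizer_of_center S hz)
      (Q := zpowers (g * (z : G) * g⁻¹))
      (zpowers_le.2 (mem_centralizer_singleton_iff.2 hcm.symm.eq))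
      (IsPGroup.of_card (n := 1) (by
        rw [Nat.card_zpowers, show g * (z : G) * g⁻¹ = MulAut.conj g (z : G) from rfl, MulEquiv.orderOf_eq,
          orderOf_coe, hz2, pow_one]))
    refine ⟨⟨_, hcS _ (mem_zpowers _)⟩, fun e => hne ?_, (c * g)⁻¹, ?_⟩
    · have e' : c * (g * z * g⁻¹) * c⁻¹ = (z : G) := congrArg Subtype.val e
      rw [mul_inv_eq_iff_eq_mul, ← mem_centralizer_singleton_iff.1 hc] at e'
      exact mul_left_cancel e'
    · show (c * g)⁻¹ * (c * (g * z * g⁻¹) * c⁻¹) * ((c * g)⁻¹)⁻¹ = z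
      group

end Cfsg.Agent.AlperinRankTwo
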